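import Cfsg.Agent.GW.Cv5
import Cfsg.Agent.H6.FF2
import Cfsg.Agent.H4.PLocal
import Cfsg.Agent.H9.Tools5
import Cfsg.Agent.H9.Loc1
import Cfsg.Agent.L.Block2

/-! The zipper lemma and the theorem of Bartels for involutions. -/

set_option autoImplicit false
set_option linter.unusedVariables false
set_option linter.unusedSectionVars false

namespace BT

open Cfsg Subgroup FT H4 H5 GW

universe u

variable {G : Type u} [Group G] [Finite G]

theorem ex_coatom {H : Subgroup G} (h : H ≠ ⊤) : ∃ M, IsCoatom M ∧ H ≤ M :=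
  (eq_top_or_exists_le_coatom H).resolve_left h

theorem sn_step {H S L : Subgroup G} (h : SN H L) (h1 : S ≤ L) (h2 : L ≤ Nor S) (h3 : ¬ H ≤ Nor S) :
    ∃ x ∈ H, x ∉ Nor S ∧ conjS x S ≤ Nor S := by
  induction h with
  | refl => exact absurd h2 h3
  | @step K L a b c ih =>
    by_cases e : L ≤ Nor S
    · exact ih (h1.trans a) e
    · obtain ⟨x, hx, e⟩ := SetLike.not_le_iff_exists.1 e
      exact ⟨x, c.le hx, e, (conjS_mono x h1).trans ((mem_normalizer_iff_conjS.1 (b hx)).le.trans h2)⟩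

/-- the zipper lemma -/
theorem zipper (S : Subgroup G) (h : ∀ H, H ≠ ⊤ → S ≤ H → SN H S) (hn : ¬ SN ⊤ S) :
    ∃ M, IsCoatom M ∧ ∀ H, H ≠ ⊤ → S ≤ H → H ≤ M := by
  induction S using WellFoundedGT.induction with
  | ind S ih =>
  obtain ⟨M, hM, e⟩ := ex_coatom (H := Nor S) fun e => hn (SN.of_normal le_top e.ge)
  refine ⟨M, hM, fun K hK hS => ?_⟩
  by_cases c : K ≤ Nor S
  · exact c.trans e
  obtain ⟨x, hx, x1, x2⟩ := sn_step (h K hK hS) le_rfl le_normalizer c
  have n : S ⊔ conjS x S ≤ Nor S := sup_le le_normalizer x2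
  obtain ⟨M', hM', e'⟩ := ih (S ⊔ conjS x S) (left_lt_sup.2 fun k => x1 (mnor fun _ hk =>
    k (conj_mem_conjS hk))) (fun H hH k => H6.sn_sup (h H hH (le_sup_left.trans k)) (by
      have := (h (conjS x⁻¹ H) (fun e => hH (by
        rw [← conjS_conjS_inv x H, e, conjS_eq_of_normal])) (by
        rw [← conjS_inv_conjS x S]; exact conjS_mono _ (le_sup_right.trans k))).conjS x
      rwa [conjS_conjS_inv] at this)) fun k => hn ((SN.of_normal le_sup_left n).trans k)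
  rw [(hM.le_iff_eq hM'.1).1 (e' M hM.1 (n.trans e))] at e'
  exact e' K hK (sup_le hS ((conjS_mono x hS).trans (mem_normalizer_iff_conjS.1
    (le_normalizer hx)).le))

/-- the subgroup generated by `x` and the elements of odd order of `H` inverted by `x` -/
def KK (H : Subgroup G) (x : G) : Subgroup G :=
  closure {h | h = x ∨ h ∈ H ∧ Odd (orderOf h) ∧ x * h * x⁻¹ = h⁻¹}

theorem mem_K (H : Subgroup G) (x : G) : x ∈ KK H x := subset_closure (.inl rfl)
theorem mem_K' {H : Subgroup G} {x h : G} (h1 : h ∈ H) (h2 : Odd (orderOf h))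
    (h3 : x * h * x⁻¹ = h⁻¹) : h ∈ KK H x := subset_closure (.inr ⟨h1, h2, h3⟩)
theorem K_le {H L : Subgroup G} {x : G} (hx : x ∈ L)
    (h : ∀ h ∈ H, Odd (orderOf h) → x * h * x⁻¹ = h⁻¹ → h ∈ L) : KK H x ≤ L :=
  (closure_le _).2 (by rintro a (rfl | ⟨a, b, c⟩); exacts [hx, h _ a b c])
theorem K_top (H : Subgroup G) (x : G) : KK H x ≤ KK ⊤ x :=
  K_le (mem_K _ _) fun _ _ => mem_K' (mem_top _)

theorem K_map {X : Type*} [Group X] [Finite X] (f : G →* X) {H : Subgroup G} {x : G} (hx : x ∈ H)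
    (x2 : x * x = 1) : (KK H x).map f = KK (H.map f) (f x) := by
  refine le_antisymm (map_le_iff_le_comap.2 (K_le (mem_K _ _) fun h a b c => mem_K'
    (mem_map_of_mem f a) (b.of_dvd_nat (orderOf_map_dvd f h)) (by
      rw [← map_inv, ← map_mul, ← map_mul, c, map_inv]))) (K_le (mem_map_of_mem f (mem_K _ _)) ?_)
  rintro _ ⟨h, a, rfl⟩ b c
  obtain ⟨s, y, e1, e2, -, e4, e5, e6⟩ := L.exists_decomp (p := 2) (h⁻¹ * (x * h * x⁻¹))
  have xi : x⁻¹ = x := inv_eq_of_mul_eq_one_right x2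
  have fc : f (h⁻¹ * (x * h * x⁻¹)) = (f h)⁻¹ ^ 2 := by simp only [map_mul, map_inv, c, sq]
  have fs : f s = 1 := H9.eq_one_of_odd_of_mem (e1.isPGroup_zpowers.map f) (mem_map_of_mem f
    (mem_zpowers s)) (b.of_dvd_nat (orderOf_dvd_of_mem_zpowers (by
      obtain ⟨k, rfl⟩ := e5
      rw [map_zpow, fc]
      exact zpow_mem (pow_mem (inv_mem (mem_zpowers _)) _) _)))
  have m : (f h)⁻¹ ^ 2 ∈ (KK H x).map f := ⟨y, mem_K' (zpowers_le.2 (mul_mem (inv_mem a)
    (mul_mem (mul_mem hx a) (inv_mem hx))) e6) (odd_iff_cop.2 e2) (by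
      obtain ⟨k, rfl⟩ := e6
      rw [← conj_zpow, ← inv_zpow]
      congr 1
      rw [xi, mul_inv_rev, mul_inv_rev, mul_inv_rev, xi, inv_inv, mul_assoc, mul_assoc, mul_assoc,
        mul_assoc, x2, mul_one, mul_assoc, mul_assoc]), by rw [← fc, e4, map_mul, fs, one_mul]⟩
  exact inv_mem_iff.1 (zpowers_le.2 m (mem_zpowers_pow_iff.2 (by
    rw [orderOf_inv]; exact b.coprime_two_left)))

theorem K_conj (g : G) {x : G} (x2 : x * x = 1) : conjS g (KK ⊤ x) = KK ⊤ (g * x * g⁻¹) := by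
  rw [conjS, K_map _ (mem_top x) x2, map_top_of_surjective _ (MulAut.conj g).surjective]; rfl

theorem step {x : G} (x2 : x * x = 1) {M : Subgroup G} (hM : IsCoatom M) (hK : KK ⊤ x ≤ M)
    (hC : Cen1 x ≤ M) (core : ∀ z, (∀ g, g * z * g⁻¹ ∈ M) → z = 1)
    (sub : ∀ H : Subgroup G, H ≠ ⊤ → ∀ y ∈ H, y * y = 1 → SN H (KK H y)) : False := by
  have x1 : x ≠ 1 := fun e => hM.1 (eq_top_iff.2 fun g _ => hC (c1.2 (by simp [e])))
  have xM := hK (mem_K _ _)
  have xi : x⁻¹ = x := inv_eq_of_mul_eq_one_right x2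
  let F : Subgroup G → Prop := fun R => IsPGroup 2 R ∧ x ∈ R ∧ R ≤ M ∧ ∃ H, H ≠ ⊤ ∧ ¬ H ≤ M ∧ R ≤ H
  by_cases c : F (zpowers x)
  swap
  · refine x1 (core x fun g => ?_)
    have u : ∀ H, H ≠ ⊤ → x ∈ H → H ≤ M := fun H h1 h2 => by_contra fun h3 => c
      ⟨H9.isPGroup_zpowers (k := 1) (by rwa [pow_one, sq]), mem_zpowers x, zpowers_le.2 xM, H, h1,
        h3, zpowers_le.2 h2⟩
    have y2 : g * x * g⁻¹ * (g * x * g⁻¹) = 1 := by rw [conj_mul, x2]; simp
    generalize g * x * g⁻¹ = y at y2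
    have i : x * (x * y) * x⁻¹ = (x * y)⁻¹ := by
      rw [← mul_assoc, x2, one_mul, mul_inv_rev, inv_eq_of_mul_eq_one_right y2]
    refine (mul_mem_cancel_left xM).1 ?_
    generalize x * y = r at i
    rcases Nat.even_or_odd (orderOf r) with ⟨k, o⟩ | o
    swap
    · exact hK (mem_K' (mem_top _) o i)
    have z2 : (r ^ k)⁻¹ = r ^ k := inv_eq_of_mul_eq_one_right (by
      rw [← pow_add, ← o, pow_orderOf_eq_one])
    have xz : x ∈ Cen1 (r ^ k) := c1'.2 (by rw [← conj_pow, i, inv_pow, z2])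
    refine u _ (fun e => ?_) xz (c1.2 (Commute.self_pow r k))
    have := orderOf_pos r
    exact pow_ne_one_of_lt_orderOf (n := k) (x := r) (by omega) (by omega) (core _ fun g => by
      rw [c1'.1 (e.ge (mem_top g))]; exact hC (c1s.1 xz))
  obtain ⟨R, -, mx⟩ := exists_maximal_ge_of_wellFoundedGT F _ c
  obtain ⟨r1, r2, r3, H, h1, h2, h3⟩ := mx.prop
  obtain ⟨H, hH, h4⟩ := ex_coatom h1
  replace h2 : ¬ H ≤ M := fun e => h2 (h4.trans e)
  replace h3 := h3.trans h4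
  let P : Subgroup G → G → Prop := fun L g => ∃ m ∈ M, g * m * x * (g * m)⁻¹ ∈ L
  let T : Subgroup G := ⟨⟨⟨{σ | ∀ g, P R g ↔ P R (σ * g)}, fun a b g => by
    rw [mul_assoc]; exact (b g).trans (a _)⟩, fun g => by rw [one_mul]⟩, fun {σ} a g => by
    rw [a (σ⁻¹ * g), mul_inv_cancel_left]⟩
  have k0 : ∀ L σ g, σ ∈ Nor L → P L g → P L (σ * g) := fun L σ g a ⟨m, b, e⟩ =>
    ⟨m, b, mem_of_eq (cmem a e) (by group)⟩
  have k1 : ∀ L : Subgroup G, (∀ σ ∈ L, ∀ g, P R g → P R (σ * g)) → L ≤ T := fun L a σ b g =>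
    ⟨a σ b g, fun e => by simpa using a _ (inv_mem b) _ e⟩
  have kN : Nor R ≤ T := k1 _ fun σ a g => k0 R σ g a
  have kS : ∀ L, L ≠ ⊤ → IsSylowOf 2 R L → L ≤ T := fun L l1 l2 => k1 _ fun σ a g ⟨m, b, e⟩ => by
    obtain ⟨m, b, e⟩ := k0 L σ g (le_normalizer a) ⟨m, b, l2.le e⟩
    generalize σ * g = g at e ⊢
    have y2 : g * m * x * (g * m)⁻¹ * (g * m * x * (g * m)⁻¹) = 1 := by rw [conj_mul, x2]; simp
    obtain ⟨k, hk, e1⟩ := (IsSylowOf.inf_of_sn l2 (sub L l1 _ e y2)).exists_conj_le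
      (H9.isPGroup_zpowers (k := 1) (by rwa [pow_one, sq])) (zpowers_le.2 (mem_K _ _))
    have := K_top _ _ hk
    rw [← K_conj _ x2, mem_conjS] at this
    exact ⟨_, mul_mem b (hK this), mem_of_eq (e1 (conj_mem_conjS (mem_zpowers _))).1 (by group)⟩
  have r0 : R ≠ ⊥ := fun e => x1 (e.le r2)
  have hT : T = ⊤ := by
    by_cases s : IsSylowOf 2 R M
    · refine hM.2 _ (lt_of_le_of_ne (kS M hM.1 s) fun e => ?_)
      by_cases s' : IsSylowOf 2 R H
      · exact h2 ((kS H hH.1 s').trans e.ge)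
      · obtain ⟨R', a, b, d⟩ := ex_gt r1 h3 s'
        exact b.ne' (s.eq_of_le a b.le ((d.trans inf_le_right).trans (kN.trans e.ge)))
    · obtain ⟨R1, a, b, d⟩ := ex_gt r1 r3 s
      have n : Nor R ≤ M := by_contra fun n => b.not_ge (mx.le_of_ge ⟨a, b.le r2,
        d.trans inf_le_left, _, fun e => x1 (core x fun g => r3 (cmem (e.ge (mem_top g)) r2)), n,
        d.trans inf_le_right⟩ b.le)
      have s' : IsSylowOf 2 R H := by_contra fun s' => by
        obtain ⟨R', a, b, d⟩ := ex_gt r1 h3 s'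
        exact b.not_ge (mx.le_of_ge ⟨a, b.le r2, (d.trans inf_le_right).trans n, H, hH.1, h2,
          d.trans inf_le_left⟩ b.le)
      refine hH.2 _ (lt_of_le_of_ne (kS H hH.1 s') fun e => b.not_ge (mx.le_of_ge ⟨a, b.le r2,
        d.trans inf_le_left, H, hH.1, h2, (d.trans inf_le_right).trans (kN.trans e.ge)⟩ b.le))
  obtain ⟨z, hz, o, hc⟩ := H9.exists_central r1 r0
  refine ine o (core z fun g => ?_)
  obtain ⟨m, b, e⟩ := (hT.ge (mem_top g⁻¹) 1).1 ⟨1, one_mem _, by simpa using r2⟩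
  have := c1.2 (hc _ e)
  rw [← conj_c1, mem_conjS] at this
  exact mem_of_eq (mul_mem (mul_mem b (hC this)) (inv_mem b)) (by group)

theorem bartels_aux (n : ℕ) : ∀ (G : Type u) [Group G] [Finite G], Nat.card G < n →
    ∀ x : G, x * x = 1 → SN ⊤ (KK ⊤ x) := by
  induction n with
  | zero => exact fun _ _ _ h => absurd h (Nat.not_lt_zero _)
  | succ n ih =>
  intro G _ _ hG x x2
  have sub : ∀ H : Subgroup G, H ≠ ⊤ → ∀ y ∈ H, y * y = 1 → SN H (KK H y) := fun H h y hy y2 => by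
    have := (ih H (lt_of_lt_of_le (by
      rw [← card_top (G := G)]; exact card_lt_of_lt h.lt_top) (Nat.le_of_lt_succ hG)) ⟨y, hy⟩
      (Subtype.ext y2)).map H.subtype
    rwa [K_map _ (mem_top _) (Subtype.ext y2), ← MonoidHom.range_eq_map, range_subtype] at this
  have h : ∀ H, H ≠ ⊤ → KK ⊤ x ≤ H → SN H (KK ⊤ x) := fun H a b => by
    convert sub H a x (b (mem_K _ _)) x2 using 1
    exact le_antisymm (K_le (mem_K _ _) fun h c d e => mem_K' (b (mem_K' c d e)) d e) (K_top _ _)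
  by_contra hn
  obtain ⟨M, hM, u⟩ := zipper _ h hn
  have hK := u _ (fun e => hn (by rw [e]; exact SN.refl)) le_rfl
  refine step x2 hM hK (le_trans (fun g hg => mem_normalizer_iff_conjS.2 (by
    rw [K_conj g x2, c1'.1 hg])) (u (Nor _) (fun e => hn (SN.of_normal le_top e.ge)) le_normalizer))
    (fun z hz => by_contra fun z1 => hn ?_) sub
  have := (ih (G ⧸ M.normalCore) (lt_of_lt_of_le (by
    rw [← M.normalCore.card_mul_index, ← index]
    exact (lt_mul_iff_one_lt_left (Nat.pos_of_ne_zero index_ne_zero_of_finite)).2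
      (one_lt_card_iff_ne_bot _ |>.2 fun e => z1 (e.le hz))) (Nat.le_of_lt_succ hG))
    (QuotientGroup.mk' _ x) (by rw [← map_mul, x2, map_one])).comap (QuotientGroup.mk' _)
  rw [← map_top_of_surjective _ (QuotientGroup.mk'_surjective M.normalCore), ← K_map _ (mem_top _) x2,
    comap_map_eq, comap_map_eq, top_sup_eq, QuotientGroup.ker_mk'] at this
  exact (h _ (ne_top_of_le_ne_top hM.1 (sup_le hK (normalCore_le M))) le_sup_left).trans this

/-- the theorem of Bartels for involutions -/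
theorem bartels {x : G} (x2 : x * x = 1) : (KK ⊤ x).IsSubnormal :=
  sn_top_iff.1 (bartels_aux _ G (Nat.lt_succ_self _) x x2)

theorem conn [IsSimpleGroup G] {t : G} (ht : orderOf t = 2) :
    (SimpleGraph.fromRel fun x y : {x : G // IsConj t x} => Odd (orderOf (x.1 * y.1))).Connected := by
  set Γ := SimpleGraph.fromRel fun x y : {x : G // IsConj t x} => Odd (orderOf (x.1 * y.1))
  let v : G → {x : G // IsConj t x} := fun g => ⟨g * t * g⁻¹, isConj_iff.2 ⟨g, rfl⟩⟩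
  let φ : G → Γ →g Γ := fun g => ⟨fun x => ⟨g * x * g⁻¹, x.2.trans (isConj_iff.2 ⟨g, rfl⟩)⟩, by
    intro a b e
    simp only [Γ, SimpleGraph.fromRel_adj, ne_eq, Subtype.ext_iff, ← MulAut.conj_apply,
      ← map_mul, MulEquiv.orderOf_eq, EmbeddingLike.apply_eq_iff_eq] at e ⊢
    exact e⟩
  have e : ∀ g h, φ g (v h) = v (g * h) := fun g h => Subtype.ext (by
    change g * (h * t * h⁻¹) * g⁻¹ = g * h * t * (g * h)⁻¹; group)
  let T : Subgroup G := ⟨⟨⟨{g | Γ.Reachable (v 1) (v g)}, fun {a b} ha hb => ha.trans (by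
    simpa only [e, mul_one] using hb.map (φ a))⟩, .refl _⟩, fun {a} ha => show Γ.Reachable _ _ by
    simpa only [e, mul_one, inv_mul_cancel] using (ha.map (φ a⁻¹)).symm⟩
  have hT : ⊤ ≤ T := by
    rw [← ((bartels (ii ht)).eq_bot_or_top_of_isSimpleGroup ‹_›).resolve_left fun e =>
      ine ht (e.le (mem_K _ _))]
    refine K_le (show Γ.Reachable _ _ by rw [show v t = v 1 from Subtype.ext (by simp [v])])
      fun h _ o i => ?_
    by_cases c : v 1 = v h
    · exact (c ▸ .refl _ : Γ.Reachable (v 1) (v h))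
    · refine SimpleGraph.Adj.reachable ((SimpleGraph.fromRel_adj ..).2 ⟨c, .inl ?_⟩)
      rw [show (v 1).1 * (v h).1 = t * h * t⁻¹ * (t * t) * h⁻¹ by simp only [v]; group, ii ht, i,
        mul_one, ← sq]
      exact o.of_dvd_nat (orderOf_inv h ▸ orderOf_pow_dvd 2)
  have k : ∀ x, Γ.Reachable (v 1) x := fun x => by
    obtain ⟨g, e⟩ := isConj_iff.1 x.2
    exact (show v g = x from Subtype.ext e) ▸ hT (mem_top g)
  have : Nonempty {x : G // IsConj t x} := ⟨v 1⟩
  exact ⟨fun a b => (k a).symm.trans (k b)⟩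

end BT
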